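import Cfsg.Agent.CosetEnum.HeC.Data

set_option autoImplicit false
set_option maxRecDepth 100000
set_option Elab.async false

/-! Deductions for the coset table on 120 cosets (generated certificate). -/

namespace CfsgLib.CosetEnum.HeC

def B0 : ℕ := 0x488428242488482424882424c8ac668e66cc8ee66c8ae66c8ae66cc66c8ee66cce66cae66ca66cce66ce66ce66ce6ce66ce6ce6cece6cececeeceeff

theorem tree0 : foldR (tree 4 tb id parN parX) 7 0 0 = B0 := by decide +kernel

theorem goodT0 : enum.Good B0 := enum.good_tree_block 7 0 _ _ enum.good_zero tree0

theorem good0 : enum.Good B0 := goodT0

def D1 : ℕ := 0xff00000000ff00000000ff00000000ff00000000ff00000000ff00000000ff0000006e0a000000680a000000670a000000640a000000630a000000610a000000600a0000004f0a0000004b0a0000004a0a0000006203000000520302000051030200004c030200003c030200003b030200003a03020000360302000034030200003203020000280302000026030200002403020000230302000020030200001503020000210202000013020200001301020000720b0000006e0b0b0000670b0e0000630b0e0000610b0a00005f0b0600005b0b0e0000590b000000570b0e0000550b0600004a0b0e0000490b030000450b0a00003e0b0000003a0b0e0000390b020000370b0c00002f0b0a00002c0b0e0000290b0b0000230b0e0000210b050000200b0b00001f0b0e00001d0b050000190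b0a0000180b0e0000140b060000120b0a0000110b0500000f0b0900000c0b0500000a0b090000690a000000520a000000510a0000004c0a0000003c0a0000003b0a0000003a0a000000360a000000320a000000280a000000270a000000260a000000240a000000230a000000200a000000180a000000170a000000160a000000150a000000140a000000120a000000100a0600000c0a0000000b0a0500000a0a000000070a060000040a050000010a060000000a0500002408030000190803000012080300000f080300000a08030000050803000002080300000108030000000803000045060200003b0602000036060200003106020000280602000020060200001c0602000015060200000d0602000008060200000606020000030602000001060200000006020000080302000003030200000203020000000302000002020200000002020000000102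

def B1 : ℕ := 0xffffffffffffffffffffffffffffffffffffffffffffffffffffffffffffffffffffffffffffffffffffffffffffffffffffffffffffffffffffffff

theorem step1 : runDed 4 tb id wd 12 12 7 D1 B0 = B1 := by decide +kernel

theorem good1 : enum.Good B1 :=
  enum.good_ded 7 D1 12 12 _ _ rfl rfl good0 step1

end CfsgLib.CosetEnum.HeC
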